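import Cfsg.Agent.Spor.ONT.D0

set_option autoImplicit false
set_option maxRecDepth 100000000
set_option Elab.async false

namespace Cfsg.Agent.Spor.ONT

theorem sq : PA.sq A = true := by decide +kernel

theorem TTok : PA.gensOk A TT 7 = true := by decide +kernel

theorem w1 : PA.isW A TT [2, 4, 6, 12, 2, 4, 6, 12, 2, 4, 6, 12, 2, 4, 6, 12, 2, 4, 6, 12] zz = true := by decide +kernel

theorem ord : band (Nat.beq (PA.pw A zz 3) A.one) (PA.neq A zz A.one) = true := by decide +kernel

theorem cm : allN (fun j => Nat.beq (PA.mul A (nth A.one TT (2 * j)) zz) (PA.mul A zz (nth A.one TT (2 * j)))) 7 = true := by decide +kernel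

theorem ne : PA.neq A (PA.evw A TT [0, 2, 1, 3] A.one) A.one = true := by decide +kernel

theorem r3 : memL ZL (PA.evw A TT [0, 0] A.one) = true := by decide +kernel

theorem r4 : memL ZL (PA.evw A TT [2, 2] A.one) = true := by decide +kernel

theorem r5 : memL ZL (PA.evw A TT [4, 4] A.one) = true := by decide +kernel

theorem r6 : memL ZL (PA.evw A TT [6, 6] A.one) = true := by decide +kernel

theorem r7 : memL ZL (PA.evw A TT [8, 8] A.one) = true := by decide +kernel

theorem r8 : memL ZL (PA.evw A TT [10, 10] A.one) = true := by decide +kernel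

theorem r9 : memL ZL (PA.evw A TT [0, 2, 0, 2, 0, 2] A.one) = true := by decide +kernel

theorem r10 : memL ZL (PA.evw A TT [0, 4, 0, 4] A.one) = true := by decide +kernel

theorem r11 : memL ZL (PA.evw A TT [0, 6, 0, 6] A.one) = true := by decide +kernel

theorem r12 : memL ZL (PA.evw A TT [0, 8, 0, 8] A.one) = true := by decide +kernel

theorem r13 : memL ZL (PA.evw A TT [0, 10, 0, 10] A.one) = true := by decide +kernel

theorem r14 : memL ZL (PA.evw A TT [2, 4, 2, 4, 2, 4] A.one) = true := by decide +kernel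

theorem r15 : memL ZL (PA.evw A TT [2, 6, 2, 6] A.one) = true := by decide +kernel

theorem r16 : memL ZL (PA.evw A TT [2, 8, 2, 8] A.one) = true := by decide +kernel

theorem r17 : memL ZL (PA.evw A TT [2, 10, 2, 10] A.one) = true := by decide +kernel

theorem r18 : memL ZL (PA.evw A TT [4, 6, 4, 6, 4, 6, 4, 6, 4, 6, 4, 6, 4, 6, 4, 6] A.one) = true := by decide +kernel

theorem r19 : memL ZL (PA.evw A TT [4, 8, 4, 8] A.one) = true := by decide +kernel

theorem r20 : memL ZL (PA.evw A TT [4, 10, 4, 10] A.one) = true := by decide +kernel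

theorem r21 : memL ZL (PA.evw A TT [6, 8, 6, 8, 6, 8] A.one) = true := by decide +kernel

theorem r22 : memL ZL (PA.evw A TT [6, 10, 6, 10] A.one) = true := by decide +kernel

theorem r23 : memL ZL (PA.evw A TT [8, 10, 8, 10, 8, 10] A.one) = true := by decide +kernel

theorem r24 : memL ZL (PA.evw A TT [0, 10, 13, 13] A.one) = true := by decide +kernel

theorem r25 : memL ZL (PA.evw A TT [0, 10, 6, 4, 6, 4, 6, 4, 6, 4] A.one) = true := by decide +kernel

theorem r26 : memL ZL (PA.evw A TT [4, 13, 6, 13, 6, 4, 6, 12, 6, 12] A.one) = true := by decide +kernel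

theorem r27 : memL ZL (PA.evw A TT [6, 13, 4, 13, 4, 6, 4, 12, 4, 12] A.one) = true := by decide +kernel

theorem r28 : memL ZL (PA.evw A TT [2, 4, 6, 12, 2, 4, 6, 12, 2, 4, 6, 12, 2, 4, 6, 12, 2, 4, 6, 12] A.one) = true := by decide +kernel

theorem r29 : memL ZL (PA.evw A TT [12, 2, 4, 12, 4, 2, 12, 2, 4, 12, 4] A.one) = true := by decide +kernel

theorem r30 : memL ZL (PA.evw A TT [12, 8, 6, 12, 6, 8, 12, 8, 6, 12, 6] A.one) = true := by decide +kernel

theorem r31 : PA.isW A TT [0, 0] A.one = true := by decide +kernel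

theorem r32 : PA.isW A TT [2, 2] A.one = true := by decide +kernel

theorem r33 : PA.isW A TT [4, 4] A.one = true := by decide +kernel

theorem r34 : PA.isW A TT [6, 6] A.one = true := by decide +kernel

theorem r35 : PA.isW A TT [8, 8] A.one = true := by decide +kernel

theorem r36 : PA.isW A TT [10, 10] A.one = true := by decide +kernel

theorem r37 : PA.isW A TT [0, 2, 0, 2, 0, 2] A.one = true := by decide +kernel

theorem r38 : PA.isW A TT [0, 4, 0, 4] A.one = true := by decide +kernel

theorem r39 : PA.isW A TT [0, 6, 0, 6] A.one = true := by decide +kernel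

theorem r40 : PA.isW A TT [0, 8, 0, 8] A.one = true := by decide +kernel

theorem r41 : PA.isW A TT [0, 10, 0, 10] A.one = true := by decide +kernel

theorem r42 : PA.isW A TT [2, 4, 2, 4, 2, 4] A.one = true := by decide +kernel

theorem r43 : PA.isW A TT [2, 6, 2, 6] A.one = true := by decide +kernel

theorem r44 : PA.isW A TT [2, 8, 2, 8] A.one = true := by decide +kernel

theorem r45 : PA.isW A TT [2, 10, 2, 10] A.one = true := by decide +kernel

theorem r46 : PA.isW A TT [4, 6, 4, 6, 4, 6, 4, 6, 4, 6, 4, 6, 4, 6, 4, 6] A.one = true := by decide +kernel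

theorem r47 : PA.isW A TT [4, 8, 4, 8] A.one = true := by decide +kernel

theorem r48 : PA.isW A TT [4, 10, 4, 10] A.one = true := by decide +kernel

theorem r49 : PA.isW A TT [6, 8, 6, 8, 6, 8] A.one = true := by decide +kernel

theorem r50 : PA.isW A TT [6, 10, 6, 10] A.one = true := by decide +kernel

theorem r51 : PA.isW A TT [8, 10, 8, 10, 8, 10] A.one = true := by decide +kernel

theorem r52 : PA.isW A TT [0, 10, 13, 13] A.one = true := by decide +kernel

theorem r53 : PA.isW A TT [0, 10, 6, 4, 6, 4, 6, 4, 6, 4] A.one = true := by decide +kernel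

theorem r54 : PA.isW A TT [4, 13, 6, 13, 6, 4, 6, 12, 6, 12] A.one = true := by decide +kernel

theorem r55 : PA.isW A TT [6, 13, 4, 13, 4, 6, 4, 12, 4, 12] A.one = true := by decide +kernel

theorem r56 : PA.isW A TT [2, 4, 6, 12, 2, 4, 6, 12, 2, 4, 6, 12, 2, 4, 6, 12, 2, 4, 6, 12, 4, 13, 4, 2, 13, 2, 4, 13, 4, 2, 13] A.one = true := by decide +kernel

theorem r57 : PA.isW A TT [2, 4, 6, 12, 2, 4, 6, 12, 2, 4, 6, 12, 2, 4, 6, 12, 2, 4, 6, 12, 2, 4, 6, 12, 2, 4, 6, 12, 2, 4, 6, 12, 2, 4, 6, 12, 2, 4, 6, 12, 2, 4, 6, 12, 2, 4, 6, 12, 2, 4, 6, 12, 2, 4, 6, 12, 2, 4, 6, 12] A.one = true := by decide +kernel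

end Cfsg.Agent.Spor.ONT
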