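import Cfsg.Agent.Spor.PX12
import Cfsg.Agent.Spor.ONSimple
import Cfsg.Agent.Spor.ONTA1.Main
import Cfsg.Agent.Spor.ONT.C0

set_option autoImplicit false
set_option maxRecDepth 100000000
set_option Elab.async false

namespace Cfsg.Agent.Spor.ONT

theorem hp : ((A.p : ℕ) : ZMod 7) = 0 := by decide
instance instCharP : CharP (ZMod 7) A.p := ZMod.charP 7

noncomputable abbrev Ω : MRep A (ZMod 7) (GL (Fin A.d) (ZMod 7)) := MRep.gl A (ZMod 7) sq hp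
theorem gTT : Ω.Gens TT (atm 7 (Ω.gen TT)) := MRep.gl_gens TTok

theorem bound : Bound 7 6 ONG.RL 460815505920 := fun G _ f h => by
  obtain ⟨φ, hφ⟩ := ONG.hom h
  rw [← range_eq_gsub hφ ONG.top, ← ONG.card]
  exact Subgroup.card_range_dvd φ
theorem cK : CExt (gsub 7 (Ω.gen TT)) (Ω.el zz) 3 (gsub 7 ONG.f) :=
  gTT.cext bound (by norm_num) ONG.pres (by rw [ONG.top, Subgroup.card_top, ONG.card])
    (by rw [ONG.top]; exact haveI := ONG.simple; Subgroup.topEquiv.isSimpleGroup)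
    (fun j hj => mem_gsub _ hj) (by norm_num) w1 ord (ZL := ZL) (by decide +kernel) cm (RL0 := [[0, 0], [2, 2], [4, 4], [6, 6], [8, 8], [10, 10], [0, 2, 0, 2, 0, 2], [0, 4, 0, 4], [0, 6, 0, 6], [0, 8, 0, 8], [0, 10, 0, 10], [2, 4, 2, 4, 2, 4], [2, 6, 2, 6], [2, 8, 2, 8], [2, 10, 2, 10], [4, 6, 4, 6, 4, 6, 4, 6, 4, 6, 4, 6, 4, 6, 4, 6], [4, 8, 4, 8], [4, 10, 4, 10], [6, 8, 6, 8, 6, 8], [6, 10, 6, 10], [8, 10, 8, 10, 8, 10], [0, 10, 13, 13], [0, 10, 6, 4, 6, 4, 6, 4, 6, 4], [4, 13, 6, 13, 6, 4, 6, 12, 6, 12], [6, 13, 4, 13, 4, 6, 4, 12, 4, 12], [2, 4, 6, 12, 2, 4, 6, 12, 2, 4, 6, 12, 2, 4, 6, 12, 2, 4, 6, 12], [12, 2, 4, 12, 4, 2, 12, 2, 4, 12, 4], [12, 8, 6, 12, 6, 8, 12, 8, 6, 12, 6]])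
    (WD := [[0], [2], [4], [6], [8], [10], [12]]) (H := [([], 6, true), ([], 7, true), ([], 8, true), ([], 9, true), ([], 10, true), ([], 11, true), ([], 12, true), ([], 13, true), ([], 14, true), ([], 15, true), ([], 16, true), ([], 17, true), ([], 18, true), ([], 19, true), ([], 20, true), ([], 21, true), ([], 22, true), ([], 23, true), ([], 24, true), ([], 25, true), ([], 26, true), ([], 27, true)])
    (show AllP (fun w => memL ZL (PA.evw A TT w A.one) = true) [[0, 0], [2, 2], [4, 4], [6, 6], [8, 8], [10, 10], [0, 2, 0, 2, 0, 2], [0, 4, 0, 4], [0, 6, 0, 6], [0, 8, 0, 8], [0, 10, 0, 10], [2, 4, 2, 4, 2, 4], [2, 6, 2, 6], [2, 8, 2, 8], [2, 10, 2, 10], [4, 6, 4, 6, 4, 6, 4, 6, 4, 6, 4, 6, 4, 6, 4, 6], [4, 8, 4, 8], [4, 10, 4, 10], [6, 8, 6, 8, 6, 8], [6, 10, 6, 10], [8, 10, 8, 10, 8, 10], [0, 10, 13, 13], [0, 10, 6, 4, 6, 4, 6, 4,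 6, 4], [4, 13, 6, 13, 6, 4, 6, 12, 6, 12], [6, 13, 4, 13, 4, 6, 4, 12, 4, 12], [2, 4, 6, 12, 2, 4, 6, 12, 2, 4, 6, 12, 2, 4, 6, 12, 2, 4, 6, 12], [12, 2, 4, 12, 4, 2, 12, 2, 4, 12, 4], [12, 8, 6, 12, 6, 8, 12, 8, 6, 12, 6]] from AllP.cons r3 (AllP.cons r4 (AllP.cons r5 (AllP.cons r6 (AllP.cons r7 (AllP.cons r8 (AllP.cons r9 (AllP.cons r10 (AllP.cons r11 (AllP.cons r12 (AllP.cons r13 (AllP.cons r14 (AllP.cons r15 (AllP.cons r16 (AllP.cons r17 (AllP.cons r18 (AllP.cons r19 (AllP.cons r20 (AllP.cons r21 (AllP.cons r22 (AllP.cons r23 (AllP.cons r24 (AllP.cons r25 (AllP.cons r26 (AllP.cons r27 (AllP.cons r28 (AllP.cons r29 (AllP.cons r30 (AllP.nil))))))))))))))))))))))))))))) (by decide +kernel) (x := 0) (y := 2) (by decide) ne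
theorem presK : Pres 7 6 [[0, 2, 0, 2, 0, 2], [0, 4, 0, 4], [0, 6, 0, 6], [0, 8, 0, 8], [0, 10, 0, 10], [2, 4, 2, 4, 2, 4], [2, 6, 2, 6], [2, 8, 2, 8], [2, 10, 2, 10], [4, 6, 4, 6, 4, 6, 4, 6, 4, 6, 4, 6, 4, 6, 4, 6], [4, 8, 4, 8], [4, 10, 4, 10], [6, 8, 6, 8, 6, 8], [6, 10, 6, 10], [8, 10, 8, 10, 8, 10], [0, 10, 13, 13], [0, 10, 6, 4, 6, 4, 6, 4, 6, 4], [4, 13, 6, 13, 6, 4, 6, 12, 6, 12], [6, 13, 4, 13, 4, 6, 4, 12, 4, 12], [2, 4, 6, 12, 2, 4, 6, 12, 2, 4, 6, 12, 2, 4, 6, 12, 2, 4, 6, 12, 4, 13, 4, 2, 13, 2, 4, 13, 4, 2, 13], [2, 4, 6, 12, 2, 4, 6, 12, 2, 4, 6, 12, 2, 4, 6, 12, 2, 4, 6, 12, 2, 4, 6, 12, 2, 4, 6, 12, 2, 4, 6, 12, 2, 4, 6, 12, 2, 4, 6, 12, 2, 4, 6, 12, 2, 4, 6, 12, 2, 4, 6, 12, 2, 4, 6, 12, 2, 4, 6, 12]] (Ω.gen TT) :=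
  Pres.elim (N := 7) (RL0 := [[0, 0], [2, 2], [4, 4], [6, 6], [8, 8], [10, 10], [0, 2, 0, 2, 0, 2], [0, 4, 0, 4], [0, 6, 0, 6], [0, 8, 0, 8], [0, 10, 0, 10], [2, 4, 2, 4, 2, 4], [2, 6, 2, 6], [2, 8, 2, 8], [2, 10, 2, 10], [4, 6, 4, 6, 4, 6, 4, 6, 4, 6, 4, 6, 4, 6, 4, 6], [4, 8, 4, 8], [4, 10, 4, 10], [6, 8, 6, 8, 6, 8], [6, 10, 6, 10], [8, 10, 8, 10, 8, 10], [0, 10, 13, 13], [0, 10, 6, 4, 6, 4, 6, 4, 6, 4], [4, 13, 6, 13, 6, 4, 6, 12, 6, 12], [6, 13, 4, 13, 4, 6, 4, 12, 4, 12], [2, 4, 6, 12, 2, 4, 6, 12, 2, 4, 6, 12, 2, 4, 6, 12, 2, 4, 6, 12, 4, 13, 4, 2, 13, 2, 4, 13, 4, 2, 13], [2, 4, 6, 12, 2, 4, 6, 12, 2, 4, 6, 12, 2, 4, 6, 12, 2, 4, 6, 12, 2, 4, 6, 12, 2, 4, 6, 12, 2, 4, 6, 12, 2, 4, 6, 12, 2, 4, 6, 12, 2, 4, 6, 12, 2, 4, 6, 12, 2, 4, 6, 12, 2, 4, 6, 12, 2, 4, 6, 12]]) (WD := [[0], [2], [4], [6], [8], [10], [12]]) (H := [([],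 6, true), ([], 7, true), ([], 8, true), ([], 9, true), ([], 10, true), ([], 11, true), ([], 12, true), ([], 13, true), ([], 14, true), ([], 15, true), ([], 16, true), ([], 17, true), ([], 18, true), ([], 19, true), ([], 20, true), ([], 21, true), ([], 22, true), ([], 23, true), ([], 24, true), ([], 25, true), ([], 26, true)])
    (gTT.all_one (show AllP (fun w => PA.isW A TT w A.one = true) [[0, 0], [2, 2], [4, 4], [6, 6], [8, 8], [10, 10], [0, 2, 0, 2, 0, 2], [0, 4, 0, 4], [0, 6, 0, 6], [0, 8, 0, 8], [0, 10, 0, 10], [2, 4, 2, 4, 2, 4], [2, 6, 2, 6], [2, 8, 2, 8], [2, 10, 2, 10], [4, 6, 4, 6, 4, 6, 4, 6, 4, 6, 4, 6, 4, 6, 4, 6], [4, 8, 4, 8], [4, 10, 4, 10], [6, 8, 6, 8, 6, 8], [6, 10, 6, 10], [8, 10, 8, 10, 8, 10], [0, 10, 13, 13], [0, 10, 6, 4, 6, 4, 6, 4, 6, 4], [4, 13, 6, 13, 6, 4, 6, 12, 6, 12], [6, 13, 4, 13, 4, 6, 4, 12, 4,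 12], [2, 4, 6, 12, 2, 4, 6, 12, 2, 4, 6, 12, 2, 4, 6, 12, 2, 4, 6, 12, 4, 13, 4, 2, 13, 2, 4, 13, 4, 2, 13], [2, 4, 6, 12, 2, 4, 6, 12, 2, 4, 6, 12, 2, 4, 6, 12, 2, 4, 6, 12, 2, 4, 6, 12, 2, 4, 6, 12, 2, 4, 6, 12, 2, 4, 6, 12, 2, 4, 6, 12, 2, 4, 6, 12, 2, 4, 6, 12, 2, 4, 6, 12, 2, 4, 6, 12, 2, 4, 6, 12]] from AllP.cons r31 (AllP.cons r32 (AllP.cons r33 (AllP.cons r34 (AllP.cons r35 (AllP.cons r36 (AllP.cons r37 (AllP.cons r38 (AllP.cons r39 (AllP.cons r40 (AllP.cons r41 (AllP.cons r42 (AllP.cons r43 (AllP.cons r44 (AllP.cons r45 (AllP.cons r46 (AllP.cons r47 (AllP.cons r48 (AllP.cons r49 (AllP.cons r50 (AllP.cons r51 (AllP.cons r52 (AllP.cons r53 (AllP.cons r54 (AllP.cons r55 (AllP.cons r56 (AllP.cons r57 (AllP.nil))))))))))))))))))))))))))))) (by decide +kernel)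
theorem perfect : commutator (gsub 7 (Ω.gen TT)) = ⊤ :=
  ONTA1.cert.bound_nil.perfect presK.lift (gsub_lift 7 _) [[0], [2], [4], [6], [8], [10], [12]] (H := [([], 0, true), ([], 1, true), ([], 2, true), ([], 3, true), ([], 4, true), ([], 5, true), ([], 6, true), ([], 7, true), ([], 8, true), ([], 9, true), ([], 10, true), ([], 11, true), ([], 12, true), ([], 13, true), ([], 14, true), ([], 15, true), ([], 16, true), ([], 17, true), ([], 18, true), ([], 19, true), ([], 20, true), ([], 22, true), ([], 1, true), ([], 2, true), ([], 3, true), ([], 4, true), ([], 27, true), ([], 30, true), ([], 6, true), ([], 7, true), ([], 8, true), ([], 34, true), ([], 38, true), ([], 10, true), ([], 11, true), ([], 41, true), ([], 46, true), ([], 13, true), ([], 48, true), ([], 54, true), ([], 55, true), ([], 62, true)]) (by decide +kernel)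

theorem fin : ∃ H : Subgroup (Matrix.SpecialLinearGroup (Fin A.d) (ZMod 7)),
    Nat.card (Subgroup.center H) = 3 ∧ (IsSimpleGroup (H ⧸ Subgroup.center H) ∧ Nat.card (H ⧸ Subgroup.center H) = 460815505920) := by
  exact cK.toSL perfect (simple_card_congr
    (Subgroup.topEquiv.symm.trans (MulEquiv.subgroupCongr ONG.top.symm)) ⟨ONG.simple, ONG.card⟩)

end Cfsg.Agent.Spor.ONT
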